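import Groth.Agent.LC.Sop
import Mathlib.RingTheory.IntegralClosure.IntegrallyClosed
import Groth.Agent.FlatLoc6.SerreNormal
import Mathlib.RingTheory.GradedAlgebra.HomogeneousLocalization
import Mathlib.RingTheory.GradedAlgebra.Radical
import Mathlib.RingTheory.Ideal.MinimalPrime.Localization
import Mathlib.AlgebraicGeometry.ProjectiveSpectrum.Topology

/-!
The homogeneous localization at a relevant homogeneous prime, compared with the ordinary localization:
ideals are contracted from the localization, so Cohen–Macaulayness and `(S_1)` descend.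
-/

set_option autoImplicit false
set_option linter.style.haveILetI false

universe u

open IsLocalRing RingTheory.Sequence DirectSum

namespace Groth.Agent.ProjCM

variable {A : Type u} [CommRing A] (𝒜 : ℕ → AddSubgroup A) [GradedRing 𝒜] (P : Ideal A) [P.IsPrime]

local notation "R₀" => HomogeneousLocalization.AtPrime 𝒜 P
local notation "L" => Localization.AtPrime P
local notation "v" => algebraMap (HomogeneousLocalization.AtPrime 𝒜 P) (Localization.AtPrime P)

theorem v_mk {j : ℕ} (a b : 𝒜 j) (hb : (b : A) ∉ P) :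
    v (HomogeneousLocalization.mk ⟨j, a, b, hb⟩) * algebraMap A L (b : A) = algebraMap A L (a : A) := by
  rw [HomogeneousLocalization.algebraMap_apply, HomogeneousLocalization.val_mk, Localization.mk_eq_mk']
  exact IsLocalization.mk'_spec L (a : A) (⟨(b : A), hb⟩ : P.primeCompl)

/-- The homogeneous ideal of `A` attached to an ideal of the homogeneous localization. -/
def lift (I : Ideal R₀) : Ideal A where
  carrier := {b | ∀ n i m : ℕ, i + n = m → ∀ c ∈ 𝒜 i, ∀ E ∈ 𝒜 m, E ∉ P →
    ∃ y ∈ I, algebraMap A L (c * (decompose 𝒜 b n : A)) = v y * algebraMap A L E}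
  zero_mem' := fun n i m _ c _ E _ _ => ⟨0, zero_mem _, by simp⟩
  add_mem' := fun {a b} ha hb n i m h c hc E hE hEP => by
    obtain ⟨y, hy, e⟩ := ha n i m h c hc E hE hEP
    obtain ⟨y', hy', e'⟩ := hb n i m h c hc E hE hEP
    refine ⟨y + y', add_mem hy hy', ?_⟩
    rw [decompose_add, DirectSum.add_apply, AddSubgroup.coe_add, mul_add, map_add, e, e', map_add, add_mul]
  smul_mem' := fun r b hb => by
    classical
    induction r using DirectSum.Decomposition.inductionOn 𝒜 with
    | zero =>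
      intro n i m h c hc E hE hEP
      exact ⟨0, zero_mem _, by simp⟩
    | homogeneous r =>
      rename_i j
      intro n i m h c hc E hE hEP
      rw [smul_eq_mul, coe_decompose_mul_of_left_mem 𝒜 n r.2]
      split_ifs with hjn
      · obtain ⟨y, hy, e⟩ := hb (n - j) (i + j) m (by omega) (c * r) (SetLike.mul_mem_graded hc r.2) E hE hEP
        exact ⟨y, hy, by rw [← e, mul_assoc]⟩
      · exact ⟨0, zero_mem _, by simp⟩
    | add r s hr hs =>
      intro n i m h c hc E hE hEP
      obtain ⟨y, hy, e⟩ := hr n i m h c hc E hE hEP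
      obtain ⟨y', hy', e'⟩ := hs n i m h c hc E hE hEP
      refine ⟨y + y', add_mem hy hy', ?_⟩
      simp only [smul_eq_mul] at e e' ⊢
      rw [add_mul, decompose_add, DirectSum.add_apply, AddSubgroup.coe_add, mul_add, map_add, e, e', map_add,
        add_mul]

theorem map_le_map_lift (I : Ideal R₀) : I.map v ≤ (lift 𝒜 P I).map (algebraMap A L) := by
  classical
  rw [Ideal.map_le_iff_le_comap]
  intro y hy
  obtain ⟨⟨j, a, b, hb⟩, rfl⟩ := HomogeneousLocalization.mk_surjective y
  have ha : (a : A) ∈ lift 𝒜 P I := by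
    intro n i m h c hc E hE hEP
    by_cases hn : j = n
    · subst hn
      rw [decompose_of_mem_same 𝒜 a.2]
      have hcb : c * (b : A) ∈ 𝒜 m := h ▸ SetLike.mul_mem_graded hc b.2
      refine ⟨HomogeneousLocalization.mk ⟨m, ⟨c * b, hcb⟩, ⟨E, hE⟩, hEP⟩ * HomogeneousLocalization.mk ⟨j, a, b, hb⟩,
        Ideal.mul_mem_left _ _ hy, ?_⟩
      rw [map_mul v, mul_right_comm, v_mk 𝒜 P ⟨c * b, hcb⟩ ⟨E, hE⟩ hEP]
      change _ = algebraMap A L (c * b) * _
      rw [map_mul, map_mul, mul_assoc, ← v_mk 𝒜 P a b hb]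
      ring
    · rw [decompose_of_mem_ne 𝒜 a.2 hn, mul_zero, map_zero]
      exact ⟨0, zero_mem _, by simp⟩
  have hu : IsUnit (algebraMap A L (b : A)) := IsLocalization.map_units L (⟨(b : A), hb⟩ : P.primeCompl)
  rw [Ideal.mem_comap]
  refine (Ideal.mul_unit_mem_iff_mem _ hu).1 ?_
  rw [v_mk 𝒜 P a b hb]
  exact Ideal.mem_map_of_mem _ ha

variable {P} (hP : P.IsHomogeneous 𝒜)

include hP in
/-- Ideals of the homogeneous localization are contracted from the localization. -/
theorem mem_of_map_mem {I : Ideal R₀} {x : R₀} (hx : v x ∈ I.map v) : x ∈ I := by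
  classical
  obtain ⟨⟨j, a, b, hb⟩, rfl⟩ := HomogeneousLocalization.mk_surjective x
  have h1 : algebraMap A L (a : A) ∈ (lift 𝒜 P I).map (algebraMap A L) := by
    rw [← v_mk 𝒜 P a b hb]
    exact Ideal.mul_mem_right _ _ (map_le_map_lift 𝒜 P I hx)
  obtain ⟨s, hs, hsa⟩ := (IsLocalization.algebraMap_mem_map_algebraMap_iff P.primeCompl L _ _).1 h1
  obtain ⟨k, hk⟩ : ∃ k, (decompose 𝒜 s k : A) ∉ P := by
    by_contra! h
    exact hs (by rw [← sum_support_decompose 𝒜 s]; exact Ideal.sum_mem _ fun i _ => h i)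
  have hE : (decompose 𝒜 s k : A) * b ∈ 𝒜 (k + j) := SetLike.mul_mem_graded (decompose 𝒜 s k).2 b.2
  have hEP : (decompose 𝒜 s k : A) * b ∉ P := fun h => ((‹P.IsPrime›).mem_or_mem h).elim hk hb
  obtain ⟨y, hy, e⟩ := hsa (k + j) 0 (k + j) (zero_add _) 1 SetLike.GradedOne.one_mem _ hE hEP
  rw [one_mul, coe_decompose_mul_add_of_right_mem 𝒜 a.2] at e
  suffices h2 : v y = v (HomogeneousLocalization.mk ⟨j, a, b, hb⟩) by
    rw [HomogeneousLocalization.algebraMap_apply, HomogeneousLocalization.algebraMap_apply] at h2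
    have := HomogeneousLocalization.val_injective (𝒜 := 𝒜) P.primeCompl h2
    rwa [← this]
  have hu : IsUnit (algebraMap A L ((decompose 𝒜 s k : A) * b)) :=
    IsLocalization.map_units L (⟨_, hEP⟩ : P.primeCompl)
  refine hu.mul_left_injective ?_
  change v y * algebraMap A L _ = v _ * algebraMap A L _
  rw [← e, map_mul, map_mul, mul_comm (algebraMap A L (decompose 𝒜 s k : A)) (algebraMap A L (b : A)),
    ← mul_assoc, v_mk 𝒜 P a b hb]
  ring

include hP in
theorem comap_map (I : Ideal R₀) : (I.map v).comap v = I :=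
  le_antisymm (fun _ hx => mem_of_map_mem 𝒜 hP hx) Ideal.le_comap_map

include hP in
theorem isNoetherianRing [IsNoetherianRing A] : IsNoetherianRing R₀ := by
  haveI : IsNoetherianRing L := IsLocalization.isNoetherianRing P.primeCompl L inferInstance
  have hmono : StrictMono (fun I : Ideal R₀ => I.map v) :=
    Monotone.strictMono_of_injective (fun _ _ h => Ideal.map_mono h) fun I J h => by
      rw [← comap_map 𝒜 hP I, ← comap_map 𝒜 hP J]
      exact congrArg (Ideal.comap v) h
  rw [isNoetherianRing_iff, isNoetherian_iff']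
  exact hmono.wellFoundedGT

variable (hrel : ∃ d, 0 < d ∧ ∃ t ∈ 𝒜 d, t ∉ P)

include hrel in
/-- A homogeneous element has a power which is a section of degree zero times a unit. -/
theorem exists_pow_eq {i : ℕ} {a : A} (ha : a ∈ 𝒜 i) : ∃ (d : ℕ) (y : R₀) (E : A),
    0 < d ∧ E ∉ P ∧ algebraMap A L (a ^ d) = v y * algebraMap A L E := by
  obtain ⟨d, hd, t, ht, htP⟩ := hrel
  have h1 : a ^ d ∈ 𝒜 (d * i) := by simpa using SetLike.pow_mem_graded d ha
  have h2 : t ^ i ∈ 𝒜 (d * i) := by simpa [mul_comm] using SetLike.pow_mem_graded i ht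
  have h3 : t ^ i ∉ P := fun h => htP ((‹P.IsPrime›).mem_of_pow_mem i h)
  exact ⟨d, HomogeneousLocalization.mk ⟨d * i, ⟨_, h1⟩, ⟨_, h2⟩, h3⟩, t ^ i, hd, h3,
    (v_mk 𝒜 P ⟨_, h1⟩ ⟨_, h2⟩ h3).symm⟩

instance : IsLocalHom v :=
  ⟨fun x hx => (HomogeneousLocalization.isUnit_iff_isUnit_val 𝒜 P x).1 hx⟩

include hP hrel in
theorem radical_map_maximalIdeal : ((maximalIdeal R₀).map v).radical = maximalIdeal L := by
  classical
  refine le_antisymm ?_ ?_
  · rw [← (maximalIdeal.isMaximal L).isPrime.isRadical.radical]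
    refine Ideal.radical_mono (Ideal.map_le_iff_le_comap.2 fun x hx => ?_)
    exact fun hu => hx (isUnit_of_map_unit v x hu)
  · rw [← Localization.AtPrime.map_eq_maximalIdeal, Ideal.map_le_iff_le_comap]
    intro a ha
    rw [← sum_support_decompose 𝒜 a]
    refine Ideal.sum_mem _ fun i _ => ?_
    have hi : (decompose 𝒜 a i : A) ∈ P := hP i ha
    obtain ⟨d, y, E, hd, hE, e⟩ := exists_pow_eq 𝒜 hrel (decompose 𝒜 a i).2
    refine ⟨d, ?_⟩
    rw [← map_pow, e]
    refine Ideal.mul_mem_right _ _ (Ideal.mem_map_of_mem v ?_)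
    intro hy
    have hEu : IsUnit (algebraMap A L E) := IsLocalization.map_units L (⟨E, hE⟩ : P.primeCompl)
    have h2 : IsUnit (algebraMap A L ((decompose 𝒜 a i : A) ^ d)) := e ▸ (hy.map v).mul hEu
    rw [IsLocalization.AtPrime.isUnit_to_map_iff L P] at h2
    exact h2 (Ideal.pow_mem_of_mem P hi d hd)

include hP in
/-- Regular sequences descend to the homogeneous localization. -/
theorem isWeaklyRegular_of_map (rs : List R₀) (h : IsWeaklyRegular L (rs.map v)) : IsWeaklyRegular R₀ rs := by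
  rw [isWeaklyRegular_iff] at h ⊢
  intro i hi
  have h' := h i (by simpa using hi)
  rw [List.getElem_map, ← List.map_take] at h'
  simp only [smul_eq_mul, Ideal.mul_top] at h' ⊢
  rw [isSMulRegular_iff_right_eq_zero_of_smul] at h' ⊢
  intro z hz
  obtain ⟨z, rfl⟩ := Submodule.Quotient.mk_surjective _ z
  rw [← Submodule.Quotient.mk_smul, Submodule.Quotient.mk_eq_zero] at hz
  rw [Submodule.Quotient.mk_eq_zero]
  refine mem_of_map_mem 𝒜 hP ?_
  have h2 := h' (Submodule.Quotient.mk (v z)) (by
    rw [← Submodule.Quotient.mk_smul, Submodule.Quotient.mk_eq_zero, ← Ideal.map_ofList]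
    rw [smul_eq_mul, ← map_mul v, Ideal.mul_top]
    exact Ideal.mem_map_of_mem v (by simpa [Ideal.mul_top] using hz))
  rw [Submodule.Quotient.mk_eq_zero, ← Ideal.map_ofList, Ideal.mul_top] at h2
  rw [Ideal.mul_top]
  exact h2

include hP hrel in
theorem isCohenMacaulayLocalRing [IsNoetherianRing A] (hCM : LocCoh.IsCohenMacaulayLocalRing L) :
    LocCoh.IsCohenMacaulayLocalRing R₀ := by
  classical
  haveI := isNoetherianRing 𝒜 hP
  haveI : IsNoetherianRing L := IsLocalization.isNoetherianRing P.primeCompl L inferInstance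
  have hM : LocCoh.IsCohenMacaulayModule L L := hCM.supportDim_eq_depth
  obtain ⟨D, hD⟩ := LC.exists_supportDim_eq_nat (R := L) L
  have hseq : ∀ k, k ≤ D → ∃ rs : List R₀, rs.length = k ∧ IsWeaklyRegular L (rs.map v) ∧
      ∀ r ∈ rs, r ∈ maximalIdeal R₀ := by
    intro k
    induction k with
    | zero => exact fun _ => ⟨[], rfl, by simpa using IsWeaklyRegular.nil L L, fun r hr => by simp at hr⟩
    | succ k ih =>
      intro hk
      obtain ⟨rs, hlen, hreg, hmem⟩ := ih (by omega)
      have hmem' : ∀ r ∈ rs.map v, r ∈ maximalIdeal L := fun r hr => by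
        obtain ⟨x, hx, rfl⟩ := List.mem_map.1 hr
        exact fun hu => hmem x hx (isUnit_of_map_unit v x hu)
      have hM' := LC.isCM_quot_ofList L hM hreg hmem'
      let M' := L ⧸ (Ideal.ofList (rs.map v) • ⊤ : Submodule L L)
      haveI : Nontrivial M' := LC.nontrivial_of_isCM M' hM'
      have hdim := Module.supportDim_add_length_eq_supportDim_of_isRegular (rs.map v)
        (IsRegular.of_isWeaklyRegular_of_mem_maximalIdeal L hmem' hreg)
      rw [hD, List.length_map, hlen] at hdim
      obtain ⟨E, hE⟩ := LC.exists_supportDim_eq_nat (R := L) M'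
      rw [hE] at hdim
      have hE1 : E + k = D := by exact_mod_cast hdim
      have hdep : (1 : ℕ∞) ≤ LocCoh.depth L M' := by
        have h2 := hM'
        rw [LocCoh.IsCohenMacaulayModule, hE] at h2
        have h3 : (E : ℕ∞) = LocCoh.depth L M' := WithBot.coe_inj.1 h2
        rw [← h3]
        exact_mod_cast (by omega : 1 ≤ E)
      have hnm := Alg6.one_le_depth_iff.1 hdep
      have hfin := associatedPrimes.finite L M'
      obtain ⟨x, hx, hxn⟩ : ∃ x ∈ maximalIdeal R₀, ∀ q ∈ associatedPrimes L M', v x ∉ q := by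
        by_contra! h
        have hsub : ((maximalIdeal R₀ : Ideal R₀) : Set R₀) ⊆
            ⋃ q ∈ (hfin.toFinset : Set (Ideal L)), ((q.comap v : Ideal R₀) : Set R₀) := fun x hx => by
          obtain ⟨q, hq, hxq⟩ := h x hx
          exact Set.mem_biUnion (show q ∈ (hfin.toFinset : Set (Ideal L)) by simpa using hq) hxq
        obtain ⟨q, hq, hle⟩ := (Ideal.subset_union_prime ⊥ ⊥ fun q hq _ _ => by
          haveI : q.IsPrime := IsAssociatedPrime.isPrime (hfin.mem_toFinset.1 hq)
          exact Ideal.IsPrime.comap v).1 hsub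
        have hq' := hfin.mem_toFinset.1 hq
        haveI := IsAssociatedPrime.isPrime hq'
        refine hnm ?_
        convert hq'
        refine le_antisymm ?_ (le_maximalIdeal (IsAssociatedPrime.isPrime hq').ne_top)
        rw [← radical_map_maximalIdeal 𝒜 hP hrel]
        exact (IsAssociatedPrime.isPrime hq').radical_le_iff.2 (Ideal.map_le_iff_le_comap.2 hle)
      refine ⟨rs ++ [x], by simp [hlen], ?_, fun r hr => ?_⟩
      · rw [List.map_append, List.map_singleton, isWeaklyRegular_append_iff, isWeaklyRegular_singleton_iff]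
        exact ⟨hreg, Alg6.isSMulRegular_iff_forall_ass.2 hxn⟩
      · rcases List.mem_append.1 hr with hr | hr
        · exact hmem r hr
        · exact (List.mem_singleton.1 hr) ▸ hx
  obtain ⟨rs, hlen, hreg, hmem⟩ := hseq D le_rfl
  have hmem' : ∀ r ∈ rs.map v, r ∈ maximalIdeal L := fun r hr => by
    obtain ⟨x, hx, rfl⟩ := List.mem_map.1 hr
    exact fun hu => hmem x hx (isUnit_of_map_unit v x hu)
  have hdim := Module.supportDim_add_length_eq_supportDim_of_isRegular (rs.map v)
    (IsRegular.of_isWeaklyRegular_of_mem_maximalIdeal L hmem' hreg)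
  have hle : Ideal.ofList (rs.map v) ≤ maximalIdeal L := Ideal.span_le.2 hmem'
  have hrad : (Ideal.ofList (rs.map v)).radical = maximalIdeal L := by
    refine le_antisymm ((maximalIdeal.isMaximal L).isPrime.radical_le_iff.2 hle) ?_
    rw [hD, List.length_map, hlen, smul_eq_mul, Ideal.mul_top, Module.supportDim_quotient_eq_ringKrullDim] at hdim
    haveI : Nontrivial (L ⧸ Ideal.ofList (rs.map v)) :=
      Ideal.Quotient.nontrivial_iff.2 (ne_top_of_le_ne_top (maximalIdeal.isMaximal L).ne_top hle)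
    have h0 : ringKrullDim (L ⧸ Ideal.ofList (rs.map v)) = 0 := by
      obtain ⟨E, hE⟩ := LC.exists_supportDim_eq_nat (R := L) (L ⧸ Ideal.ofList (rs.map v))
      rw [Module.supportDim_quotient_eq_ringKrullDim] at hE
      rw [hE] at hdim ⊢
      have : E + D = D := by exact_mod_cast hdim
      exact_mod_cast (by omega : E = 0)
    haveI : Ring.KrullDimLE 0 (L ⧸ Ideal.ofList (rs.map v)) := ⟨h0.le⟩
    intro x hx
    rw [Ideal.radical_eq_sInf, Submodule.mem_sInf]
    rintro J ⟨hJ, hJp⟩
    haveI := hJp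
    haveI : (Ideal.map (Ideal.Quotient.mk (Ideal.ofList (rs.map v))) J).IsPrime :=
      Ideal.map_isPrime_of_surjective Ideal.Quotient.mk_surjective (by rwa [Ideal.mk_ker])
    haveI : (Ideal.map (Ideal.Quotient.mk (Ideal.ofList (rs.map v))) J).IsMaximal :=
      Ideal.IsPrime.isMaximal' inferInstance
    have hJm : Ideal.IsMaximal J := by
      have h2 := Ideal.comap_isMaximal_of_surjective (Ideal.Quotient.mk (Ideal.ofList (rs.map v)))
        Ideal.Quotient.mk_surjective (K := Ideal.map (Ideal.Quotient.mk (Ideal.ofList (rs.map v))) J)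
      rwa [Ideal.comap_map_of_surjective' _ Ideal.Quotient.mk_surjective J, Ideal.mk_ker, sup_of_le_left hJ] at h2
    exact (eq_maximalIdeal hJm) ▸ hx
  have hrad' : (Ideal.ofList rs).radical = maximalIdeal R₀ := by
    refine le_antisymm ((maximalIdeal.isMaximal R₀).isPrime.radical_le_iff.2 (Ideal.span_le.2 hmem)) fun y hy => ?_
    have hy' : v y ∈ (Ideal.ofList (rs.map v)).radical := hrad ▸ fun hu => hy (isUnit_of_map_unit v y hu)
    obtain ⟨N, hN⟩ := hy'
    exact ⟨N, mem_of_map_mem 𝒜 hP (by rw [Ideal.map_ofList, map_pow]; exact hN)⟩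
  have hle1 : ringKrullDim R₀ ≤ (D : WithBot ℕ∞) := by
    rw [← ringKrullDim_eq_of_ringEquiv (RingEquiv.quotientBot R₀)]
    refine (LC.ringKrullDim_quotient_le_card ⊥ rs.toFinset bot_ne_top ?_).trans ?_
    · rw [bot_sup_eq, List.coe_toFinset]
      exact hrad'
    · exact_mod_cast (List.toFinset_card_le rs).trans_eq hlen
  have hle2 : (D : ℕ∞) ≤ LocCoh.depth R₀ R₀ := by
    rw [← hlen]
    exact Alg6.length_le_idealDepth (isWeaklyRegular_of_map 𝒜 hP rs hreg) hmem
  refine { supportDim_eq_depth := le_antisymm ?_ (LC.depth_le_supportDim R₀) }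
  rw [Module.supportDim_self_eq_ringKrullDim]
  exact hle1.trans (by rw [← WithBot.coe_natCast]; exact WithBot.coe_le_coe.2 hle2)

include hP hrel in
theorem hasSk_one [IsNoetherianRing A] (hA : LocCoh.HasSk 1 A A) : LocCoh.HasSk 1 R₀ R₀ := by
  classical
  haveI := isNoetherianRing 𝒜 hP
  haveI : IsNoetherianRing L := IsLocalization.isNoetherianRing P.primeCompl L inferInstance
  rw [FlatLoc6.hasSk_self_iff]
  intro q _
  by_cases hq : q ∈ associatedPrimes R₀ R₀
  swap
  · rw [Nat.cast_one, ← FlatLoc6.depth_self_atPrime]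
    exact (min_le_left _ _).trans ((Alg6.one_le_depth_atPrime_iff (M := R₀) q).2 hq)
  suffices h : q.height = 0 by simp [h]
  obtain ⟨_, y, hy⟩ := Alg6.mem_ass_iff.1 hq
  let J : Ideal L := (Submodule.span L ({v y} : Set L)).annihilator
  have hJ : J.comap v = q := by
    ext x
    rw [Ideal.mem_comap, Submodule.mem_annihilator_span_singleton, hy x, smul_eq_mul, smul_eq_mul, ← map_mul]
    exact map_eq_zero_iff v (HomogeneousLocalization.val_injective (𝒜 := 𝒜) P.primeCompl)
  obtain ⟨Q, hQ, hQq⟩ := Ideal.exists_minimalPrimes_comap_eq v q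
    (by rw [hJ, Ideal.minimalPrimes_eq_subsingleton_self]; rfl)
  have hQass : Q ∈ associatedPrimes L L :=
    associatedPrimes.subset_of_injective (f := (Submodule.span L ({v y} : Set L)).subtype) Subtype.val_injective
      (Module.associatedPrimes.minimalPrimes_annihilator_subset_associatedPrimes L _ hQ)
  haveI := IsAssociatedPrime.isPrime hQass
  let QA : Ideal A := Q.comap (algebraMap A L)
  have hQA : QA ∈ associatedPrimes A A :=
    (Set.ext_iff.1 (Module.associatedPrimes.preimage_comap_associatedPrimes_eq_associatedPrimes_of_isLocalizedModule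
      P.primeCompl L (Algebra.linearMap A L)) Q).2 hQass
  have hmin : QA ∈ minimalPrimes A := Ideal.height_eq_zero_iff.1 (FlatLoc6.height_eq_zero_of_mem_ass hA hQA)
  rw [Ideal.height_eq_zero_iff]
  refine ⟨⟨inferInstance, bot_le⟩, fun q' hq' hle => ?_⟩
  obtain ⟨hq'p, -⟩ := hq'
  haveI := hq'p
  obtain ⟨Q', hQ'p, hQ'q⟩ := (Ideal.comap_map_eq_self_iff_of_isPrime q').1 (comap_map 𝒜 hP q')
  let QA' : Ideal A := Q'.comap (algebraMap A L)
  haveI : QA'.IsPrime := Ideal.IsPrime.comap _
  have hcore : (QA'.homogeneousCore 𝒜).toIdeal ≤ QA := by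
    intro a ha
    rw [← sum_support_decompose 𝒜 a]
    refine Ideal.sum_mem _ fun i _ => ?_
    have hi : (decompose 𝒜 a i : A) ∈ QA' :=
      Ideal.toIdeal_homogeneousCore_le 𝒜 QA' ((QA'.homogeneousCore 𝒜).isHomogeneous i ha)
    obtain ⟨d, z, E, hd, hE, e⟩ := exists_pow_eq 𝒜 hrel (decompose 𝒜 a i).2
    have hEu : IsUnit (algebraMap A L E) := IsLocalization.map_units L (⟨E, hE⟩ : P.primeCompl)
    have h1 : v z ∈ Q' := (Ideal.mul_unit_mem_iff_mem Q' hEu).1 (e ▸ by
      rw [map_pow]; exact Ideal.pow_mem_of_mem Q' hi d hd)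
    have h2 : z ∈ q' := hQ'q ▸ h1
    have h3 : v z ∈ Q := show z ∈ Q.comap v from hQq.symm ▸ hle h2
    refine (inferInstance : QA.IsPrime).mem_of_pow_mem d ?_
    show algebraMap A L ((decompose 𝒜 a i : A) ^ d) ∈ Q
    rw [e]
    exact Ideal.mul_mem_right _ _ h3
  have hle2 : QA ≤ QA' :=
    (hmin.2 ⟨Ideal.IsPrime.homogeneousCore ‹QA'.IsPrime›, bot_le⟩ hcore).trans
      (Ideal.toIdeal_homogeneousCore_le 𝒜 QA')
  have hle3 : Q ≤ Q' := by
    rw [← IsLocalization.map_under P.primeCompl L Q, ← IsLocalization.map_under P.primeCompl L Q']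
    exact Ideal.map_mono hle2
  intro z hz
  rw [← hQ'q]
  rw [← hQq] at hz
  exact hle3 hz

/-- Normality descends to the homogeneous localization. -/
theorem normal {A : Type u} [CommRing A] (𝒜 : ℕ → AddSubgroup A) [GradedRing 𝒜] {P : Ideal A} [P.IsPrime]
    (hP : P.IsHomogeneous 𝒜) [IsDomain (Localization.AtPrime P)] [IsIntegrallyClosed (Localization.AtPrime P)] :
    IsDomain (HomogeneousLocalization.AtPrime 𝒜 P) ∧ IsIntegrallyClosed (HomogeneousLocalization.AtPrime 𝒜 P) := by
  let φ := algebraMap (HomogeneousLocalization.AtPrime 𝒜 P) (Localization.AtPrime P)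
  have hinj : Function.Injective φ := HomogeneousLocalization.val_injective (𝒜 := 𝒜) P.primeCompl
  haveI := hinj.isDomain
  refine ⟨inferInstance, (isIntegrallyClosed_iff (FractionRing (HomogeneousLocalization.AtPrime 𝒜 P))).2 fun {z} hz => ?_⟩
  obtain ⟨a, b, hb, rfl⟩ := IsFractionRing.div_surjective (HomogeneousLocalization.AtPrime 𝒜 P) z
  have hb0 : b ≠ 0 := nonZeroDivisors.ne_zero hb
  let ψ : FractionRing (HomogeneousLocalization.AtPrime 𝒜 P) →+* FractionRing (Localization.AtPrime P) :=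
    IsFractionRing.lift (g := (algebraMap (Localization.AtPrime P) (FractionRing (Localization.AtPrime P))).comp φ)
      (by rw [RingHom.coe_comp]
          exact (IsFractionRing.injective (Localization.AtPrime P) (FractionRing (Localization.AtPrime P))).comp hinj)
  have hψ : ∀ x, ψ (algebraMap _ _ x) = algebraMap _ _ (φ x) := fun x => IsFractionRing.lift_algebraMap _ x
  have hint : IsIntegral (Localization.AtPrime P) (ψ (algebraMap _ _ a / algebraMap _ _ b)) := by
    refine IsIntegral.map_of_comp_eq φ ψ (RingHom.ext fun x => (hψ x).symm) hz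
  obtain ⟨w, hw⟩ := IsIntegrallyClosed.isIntegral_iff.1 hint
  rw [map_div₀, hψ, hψ, eq_div_iff ((map_ne_zero_iff _ (IsFractionRing.injective _ _)).2
    ((map_ne_zero_iff _ hinj).2 hb0)), ← map_mul] at hw
  have hw' := IsFractionRing.injective (Localization.AtPrime P) (FractionRing (Localization.AtPrime P)) hw
  have hmem : a ∈ Ideal.span {b} := mem_of_map_mem 𝒜 hP (by
    rw [Ideal.map_span, Set.image_singleton]
    exact Ideal.mem_span_singleton'.2 ⟨w, hw'⟩)
  obtain ⟨y, hy⟩ := Ideal.mem_span_singleton'.1 hmem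
  refine ⟨y, ?_⟩
  rw [eq_div_iff ((map_ne_zero_iff _ (IsFractionRing.injective _ _)).2 hb0), ← map_mul, hy]

theorem rel_of_point {A : Type u} [CommRing A] (𝒜 : ℕ → AddSubgroup A) [GradedRing 𝒜]
    (x : ProjectiveSpectrum 𝒜) : ∃ d, 0 < d ∧ ∃ t ∈ 𝒜 d, t ∉ x.asHomogeneousIdeal.toIdeal := by
  classical
  by_contra! h
  refine x.not_irrelevant_le fun a ha => ?_
  change a ∈ x.asHomogeneousIdeal.toIdeal
  rw [← DirectSum.sum_support_decompose 𝒜 a]
  refine Ideal.sum_mem _ fun i _ => ?_
  rcases Nat.eq_zero_or_pos i with rfl | hi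
  · rw [show (DirectSum.decompose 𝒜 a 0 : A) = GradedRing.proj 𝒜 0 a from rfl,
      (HomogeneousIdeal.mem_irrelevant_iff 𝒜 a).1 ha]
    exact zero_mem _
  · exact h i hi _ (DirectSum.decompose 𝒜 a i).2

end Groth.Agent.ProjCM
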